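import Cfsg.Agent.Lib.Helper6.Spor.J3Orb.Par
set_option autoImplicit false
set_option maxRecDepth 1000000
set_option Elab.async false
namespace Cfsg.Agent.Lib.Helper6.J3Orb.D
open Cfsg.Agent.Lib.Helper6.J3Orb Cfsg.Agent.Lib.Helper6.TC
theorem chk0_0 : allR (chkAll T GC r3) 0 4096 = true := by decide +kernel
theorem chk0_1 : allR (chkAll T GC r3) 4096 4096 = true := by decide +kernel
theorem chk0_2 : allR (chkAll T GC r3) 8192 4096 = true := by decide +kernel
theorem chk0_3 : allR (chkAll T GC r3) 12288 4096 = true := by decide +kernel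
theorem chk0_4 : allR (chkAll T GC r3) 16384 4096 = true := by decide +kernel
theorem chk0_5 : allR (chkAll T GC r3) 20480 4096 = true := by decide +kernel
theorem chk0_6 : allR (chkAll T GC r3) 24576 4096 = true := by decide +kernel
theorem chk0_7 : allR (chkAll T GC r3) 28672 4096 = true := by decide +kernel
theorem chk0 : ∀ x, 0 ≤ x → x < 32768 → chkAll T GC r3 x = true := by
  intro x hlo hhi
  by_cases h0 : x < 4096
  · exact allR_spec chk0_0 x (by omega) (by omega)
  by_cases h1 : x < 8192
  · exact allR_spec chk0_1 x (by omega) (by omega)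
  by_cases h2 : x < 12288
  · exact allR_spec chk0_2 x (by omega) (by omega)
  by_cases h3 : x < 16384
  · exact allR_spec chk0_3 x (by omega) (by omega)
  by_cases h4 : x < 20480
  · exact allR_spec chk0_4 x (by omega) (by omega)
  by_cases h5 : x < 24576
  · exact allR_spec chk0_5 x (by omega) (by omega)
  by_cases h6 : x < 28672
  · exact allR_spec chk0_6 x (by omega) (by omega)
  exact allR_spec chk0_7 x (by omega) (by omega)
theorem cnt0 : cntR (inN T) 0 32768 = 5840 := by decide +kernel
end Cfsg.Agent.Lib.Helper6.J3Orb.D
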