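import Cfsg.Agent.Lib.Helper6.Spor.J3Orb.Par
set_option autoImplicit false
set_option maxRecDepth 1000000
set_option Elab.async false
namespace Cfsg.Agent.Lib.Helper6.J3Orb.D
open Cfsg.Agent.Lib.Helper6.J3Orb Cfsg.Agent.Lib.Helper6.TC
theorem chk1_0 : allR (chkAll T GC r3) 32768 4096 = true := by decide +kernel
theorem chk1_1 : allR (chkAll T GC r3) 36864 4096 = true := by decide +kernel
theorem chk1_2 : allR (chkAll T GC r3) 40960 4096 = true := by decide +kernel
theorem chk1_3 : allR (chkAll T GC r3) 45056 4096 = true := by decide +kernel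
theorem chk1_4 : allR (chkAll T GC r3) 49152 4096 = true := by decide +kernel
theorem chk1_5 : allR (chkAll T GC r3) 53248 4096 = true := by decide +kernel
theorem chk1_6 : allR (chkAll T GC r3) 57344 4096 = true := by decide +kernel
theorem chk1_7 : allR (chkAll T GC r3) 61440 4096 = true := by decide +kernel
theorem chk1 : ∀ x, 32768 ≤ x → x < 65536 → chkAll T GC r3 x = true := by
  intro x hlo hhi
  by_cases h0 : x < 36864
  · exact allR_spec chk1_0 x (by omega) (by omega)
  by_cases h1 : x < 40960
  · exact allR_spec chk1_1 x (by omega) (by omega)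
  by_cases h2 : x < 45056
  · exact allR_spec chk1_2 x (by omega) (by omega)
  by_cases h3 : x < 49152
  · exact allR_spec chk1_3 x (by omega) (by omega)
  by_cases h4 : x < 53248
  · exact allR_spec chk1_4 x (by omega) (by omega)
  by_cases h5 : x < 57344
  · exact allR_spec chk1_5 x (by omega) (by omega)
  by_cases h6 : x < 61440
  · exact allR_spec chk1_6 x (by omega) (by omega)
  exact allR_spec chk1_7 x (by omega) (by omega)
theorem cnt1 : cntR (inN T) 32768 32768 = 0 := by decide +kernel
end Cfsg.Agent.Lib.Helper6.J3Orb.D
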