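import Cfsg.Agent.Lib.Helper6.Spor.J3Orb.Par
set_option autoImplicit false
set_option maxRecDepth 1000000
set_option Elab.async false
namespace Cfsg.Agent.Lib.Helper6.J3Orb.D
open Cfsg.Agent.Lib.Helper6.J3Orb Cfsg.Agent.Lib.Helper6.TC
theorem chk2_0 : allR (chkAll T GC r3) 65536 4096 = true := by decide +kernel
theorem chk2_1 : allR (chkAll T GC r3) 69632 4096 = true := by decide +kernel
theorem chk2_2 : allR (chkAll T GC r3) 73728 4096 = true := by decide +kernel
theorem chk2_3 : allR (chkAll T GC r3) 77824 4096 = true := by decide +kernel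
theorem chk2_4 : allR (chkAll T GC r3) 81920 4096 = true := by decide +kernel
theorem chk2_5 : allR (chkAll T GC r3) 86016 4096 = true := by decide +kernel
theorem chk2_6 : allR (chkAll T GC r3) 90112 4096 = true := by decide +kernel
theorem chk2_7 : allR (chkAll T GC r3) 94208 4096 = true := by decide +kernel
theorem chk2 : ∀ x, 65536 ≤ x → x < 98304 → chkAll T GC r3 x = true := by
  intro x hlo hhi
  by_cases h0 : x < 69632
  · exact allR_spec chk2_0 x (by omega) (by omega)
  by_cases h1 : x < 73728
  · exact allR_spec chk2_1 x (by omega) (by omega)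
  by_cases h2 : x < 77824
  · exact allR_spec chk2_2 x (by omega) (by omega)
  by_cases h3 : x < 81920
  · exact allR_spec chk2_3 x (by omega) (by omega)
  by_cases h4 : x < 86016
  · exact allR_spec chk2_4 x (by omega) (by omega)
  by_cases h5 : x < 90112
  · exact allR_spec chk2_5 x (by omega) (by omega)
  by_cases h6 : x < 94208
  · exact allR_spec chk2_6 x (by omega) (by omega)
  exact allR_spec chk2_7 x (by omega) (by omega)
theorem cnt2 : cntR (inN T) 65536 32768 = 8704 := by decide +kernel
end Cfsg.Agent.Lib.Helper6.J3Orb.D
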