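import Cfsg.Agent.Lib.Helper6.Spor.J3Orb.Par
set_option autoImplicit false
set_option maxRecDepth 1000000
set_option Elab.async false
namespace Cfsg.Agent.Lib.Helper6.J3Orb.D
open Cfsg.Agent.Lib.Helper6.J3Orb Cfsg.Agent.Lib.Helper6.TC
theorem chk3_0 : allR (chkAll T GC r3) 98304 4096 = true := by decide +kernel
theorem chk3_1 : allR (chkAll T GC r3) 102400 4096 = true := by decide +kernel
theorem chk3_2 : allR (chkAll T GC r3) 106496 4096 = true := by decide +kernel
theorem chk3_3 : allR (chkAll T GC r3) 110592 4096 = true := by decide +kernel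
theorem chk3_4 : allR (chkAll T GC r3) 114688 4096 = true := by decide +kernel
theorem chk3_5 : allR (chkAll T GC r3) 118784 4096 = true := by decide +kernel
theorem chk3_6 : allR (chkAll T GC r3) 122880 4096 = true := by decide +kernel
theorem chk3_7 : allR (chkAll T GC r3) 126976 4096 = true := by decide +kernel
theorem chk3 : ∀ x, 98304 ≤ x → x < 131072 → chkAll T GC r3 x = true := by
  intro x hlo hhi
  by_cases h0 : x < 102400
  · exact allR_spec chk3_0 x (by omega) (by omega)
  by_cases h1 : x < 106496
  · exact allR_spec chk3_1 x (by omega) (by omega)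
  by_cases h2 : x < 110592
  · exact allR_spec chk3_2 x (by omega) (by omega)
  by_cases h3 : x < 114688
  · exact allR_spec chk3_3 x (by omega) (by omega)
  by_cases h4 : x < 118784
  · exact allR_spec chk3_4 x (by omega) (by omega)
  by_cases h5 : x < 122880
  · exact allR_spec chk3_5 x (by omega) (by omega)
  by_cases h6 : x < 126976
  · exact allR_spec chk3_6 x (by omega) (by omega)
  exact allR_spec chk3_7 x (by omega) (by omega)
theorem cnt3 : cntR (inN T) 98304 32768 = 8712 := by decide +kernel
end Cfsg.Agent.Lib.Helper6.J3Orb.D
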