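import Cfsg.Agent.Lib.Helper6.Spor.J3Orb.Par
set_option autoImplicit false
set_option maxRecDepth 1000000
set_option Elab.async false
namespace Cfsg.Agent.Lib.Helper6.J3Orb.D
open Cfsg.Agent.Lib.Helper6.J3Orb Cfsg.Agent.Lib.Helper6.TC
theorem chk4_0 : allR (chkAll T GC r3) 131072 4096 = true := by decide +kernel
theorem chk4_1 : allR (chkAll T GC r3) 135168 4096 = true := by decide +kernel
theorem chk4_2 : allR (chkAll T GC r3) 139264 4096 = true := by decide +kernel
theorem chk4_3 : allR (chkAll T GC r3) 143360 4096 = true := by decide +kernel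
theorem chk4_4 : allR (chkAll T GC r3) 147456 4096 = true := by decide +kernel
theorem chk4_5 : allR (chkAll T GC r3) 151552 4096 = true := by decide +kernel
theorem chk4_6 : allR (chkAll T GC r3) 155648 4096 = true := by decide +kernel
theorem chk4_7 : allR (chkAll T GC r3) 159744 4096 = true := by decide +kernel
theorem chk4 : ∀ x, 131072 ≤ x → x < 163840 → chkAll T GC r3 x = true := by
  intro x hlo hhi
  by_cases h0 : x < 135168
  · exact allR_spec chk4_0 x (by omega) (by omega)
  by_cases h1 : x < 139264
  · exact allR_spec chk4_1 x (by omega) (by omega)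
  by_cases h2 : x < 143360
  · exact allR_spec chk4_2 x (by omega) (by omega)
  by_cases h3 : x < 147456
  · exact allR_spec chk4_3 x (by omega) (by omega)
  by_cases h4 : x < 151552
  · exact allR_spec chk4_4 x (by omega) (by omega)
  by_cases h5 : x < 155648
  · exact allR_spec chk4_5 x (by omega) (by omega)
  by_cases h6 : x < 159744
  · exact allR_spec chk4_6 x (by omega) (by omega)
  exact allR_spec chk4_7 x (by omega) (by omega)
theorem cnt4 : cntR (inN T) 131072 32768 = 0 := by decide +kernel
end Cfsg.Agent.Lib.Helper6.J3Orb.D
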