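import Cfsg.Agent.Lib.Helper6.Spor.J3Orb.Par
set_option autoImplicit false
set_option maxRecDepth 1000000
set_option Elab.async false
namespace Cfsg.Agent.Lib.Helper6.J3Orb.D
open Cfsg.Agent.Lib.Helper6.J3Orb Cfsg.Agent.Lib.Helper6.TC
theorem chk5_0 : allR (chkAll T GC r3) 163840 4096 = true := by decide +kernel
theorem chk5_1 : allR (chkAll T GC r3) 167936 4096 = true := by decide +kernel
theorem chk5_2 : allR (chkAll T GC r3) 172032 4096 = true := by decide +kernel
theorem chk5_3 : allR (chkAll T GC r3) 176128 4096 = true := by decide +kernel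
theorem chk5_4 : allR (chkAll T GC r3) 180224 4096 = true := by decide +kernel
theorem chk5_5 : allR (chkAll T GC r3) 184320 4096 = true := by decide +kernel
theorem chk5_6 : allR (chkAll T GC r3) 188416 4096 = true := by decide +kernel
theorem chk5_7 : allR (chkAll T GC r3) 192512 4096 = true := by decide +kernel
theorem chk5 : ∀ x, 163840 ≤ x → x < 196608 → chkAll T GC r3 x = true := by
  intro x hlo hhi
  by_cases h0 : x < 167936
  · exact allR_spec chk5_0 x (by omega) (by omega)
  by_cases h1 : x < 172032
  · exact allR_spec chk5_1 x (by omega) (by omega)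
  by_cases h2 : x < 176128
  · exact allR_spec chk5_2 x (by omega) (by omega)
  by_cases h3 : x < 180224
  · exact allR_spec chk5_3 x (by omega) (by omega)
  by_cases h4 : x < 184320
  · exact allR_spec chk5_4 x (by omega) (by omega)
  by_cases h5 : x < 188416
  · exact allR_spec chk5_5 x (by omega) (by omega)
  by_cases h6 : x < 192512
  · exact allR_spec chk5_6 x (by omega) (by omega)
  exact allR_spec chk5_7 x (by omega) (by omega)
theorem cnt5 : cntR (inN T) 163840 32768 = 0 := by decide +kernel
end Cfsg.Agent.Lib.Helper6.J3Orb.D
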