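import Cfsg.Agent.Lib.Helper6.Spor.J3Orb.Par
set_option autoImplicit false
set_option maxRecDepth 1000000
set_option Elab.async false
namespace Cfsg.Agent.Lib.Helper6.J3Orb.D
open Cfsg.Agent.Lib.Helper6.J3Orb Cfsg.Agent.Lib.Helper6.TC
theorem chk6_0 : allR (chkAll T GC r3) 196608 4096 = true := by decide +kernel
theorem chk6_1 : allR (chkAll T GC r3) 200704 4096 = true := by decide +kernel
theorem chk6_2 : allR (chkAll T GC r3) 204800 4096 = true := by decide +kernel
theorem chk6_3 : allR (chkAll T GC r3) 208896 4096 = true := by decide +kernel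
theorem chk6_4 : allR (chkAll T GC r3) 212992 4096 = true := by decide +kernel
theorem chk6_5 : allR (chkAll T GC r3) 217088 4096 = true := by decide +kernel
theorem chk6_6 : allR (chkAll T GC r3) 221184 4096 = true := by decide +kernel
theorem chk6_7 : allR (chkAll T GC r3) 225280 4096 = true := by decide +kernel
theorem chk6 : ∀ x, 196608 ≤ x → x < 229376 → chkAll T GC r3 x = true := by
  intro x hlo hhi
  by_cases h0 : x < 200704
  · exact allR_spec chk6_0 x (by omega) (by omega)
  by_cases h1 : x < 204800
  · exact allR_spec chk6_1 x (by omega) (by omega)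
  by_cases h2 : x < 208896
  · exact allR_spec chk6_2 x (by omega) (by omega)
  by_cases h3 : x < 212992
  · exact allR_spec chk6_3 x (by omega) (by omega)
  by_cases h4 : x < 217088
  · exact allR_spec chk6_4 x (by omega) (by omega)
  by_cases h5 : x < 221184
  · exact allR_spec chk6_5 x (by omega) (by omega)
  by_cases h6 : x < 225280
  · exact allR_spec chk6_6 x (by omega) (by omega)
  exact allR_spec chk6_7 x (by omega) (by omega)
theorem cnt6 : cntR (inN T) 196608 32768 = 0 := by decide +kernel
end Cfsg.Agent.Lib.Helper6.J3Orb.D
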