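import Cfsg.Agent.Lib.Helper6.Spor.J3Orb.Par
set_option autoImplicit false
set_option maxRecDepth 1000000
set_option Elab.async false
namespace Cfsg.Agent.Lib.Helper6.J3Orb.D
open Cfsg.Agent.Lib.Helper6.J3Orb Cfsg.Agent.Lib.Helper6.TC
theorem chk7_0 : allR (chkAll T GC r3) 229376 4096 = true := by decide +kernel
theorem chk7_1 : allR (chkAll T GC r3) 233472 4096 = true := by decide +kernel
theorem chk7_2 : allR (chkAll T GC r3) 237568 4096 = true := by decide +kernel
theorem chk7_3 : allR (chkAll T GC r3) 241664 4096 = true := by decide +kernel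
theorem chk7_4 : allR (chkAll T GC r3) 245760 4096 = true := by decide +kernel
theorem chk7_5 : allR (chkAll T GC r3) 249856 4096 = true := by decide +kernel
theorem chk7_6 : allR (chkAll T GC r3) 253952 4096 = true := by decide +kernel
theorem chk7_7 : allR (chkAll T GC r3) 258048 4096 = true := by decide +kernel
theorem chk7 : ∀ x, 229376 ≤ x → x < 262144 → chkAll T GC r3 x = true := by
  intro x hlo hhi
  by_cases h0 : x < 233472
  · exact allR_spec chk7_0 x (by omega) (by omega)
  by_cases h1 : x < 237568
  · exact allR_spec chk7_1 x (by omega) (by omega)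
  by_cases h2 : x < 241664
  · exact allR_spec chk7_2 x (by omega) (by omega)
  by_cases h3 : x < 245760
  · exact allR_spec chk7_3 x (by omega) (by omega)
  by_cases h4 : x < 249856
  · exact allR_spec chk7_4 x (by omega) (by omega)
  by_cases h5 : x < 253952
  · exact allR_spec chk7_5 x (by omega) (by omega)
  by_cases h6 : x < 258048
  · exact allR_spec chk7_6 x (by omega) (by omega)
  exact allR_spec chk7_7 x (by omega) (by omega)
theorem cnt7 : cntR (inN T) 229376 32768 = 0 := by decide +kernel
end Cfsg.Agent.Lib.Helper6.J3Orb.D
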