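import Cfsg.Agent.Lib.Helper6.Spor.J3Orb.TP0
import Cfsg.Agent.Lib.Helper6.Spor.J3Orb.TP1
import Cfsg.Agent.Lib.Helper6.Spor.J3Orb.TP2
import Cfsg.Agent.Lib.Helper6.Spor.J3Orb.TP3
set_option autoImplicit false
namespace Cfsg.Agent.Lib.Helper6.J3Orb.D
noncomputable def TT0 (i : Nat) : Nat := Bool.rec (TP0N62 i) (TP1N62 i) (Nat.ble 65536 i)
noncomputable def TT1 (i : Nat) : Nat := Bool.rec (TP2N62 i) (TP3N62 i) (Nat.ble 196608 i)
noncomputable def T (i : Nat) : Nat := Bool.rec (TT0 i) (TT1 i) (Nat.ble 131072 i)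
end Cfsg.Agent.Lib.Helper6.J3Orb.D
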