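import Cfsg.Agent.Lib.Helper6.Spor.J3Orb2
import Cfsg.Agent.Lib.Helper6.Spor.J3Orb.T
set_option autoImplicit false
set_option maxRecDepth 1000000
namespace Cfsg.Agent.Lib.Helper6.J3Orb.D
open Cfsg.Agent.Lib.Helper6.J3Orb Cfsg.Agent.Lib.Helper6.J3GL Cfsg.Agent.Lib.Helper1.MatCode
/-- the six generators, packed -/
def GC : Nat := 0xc000200003000080000c000200003000080000c000200003000080000c000200003000080000c0002b738db89277d7bbaf97581fbd0eaf8016900e215a44fdc2a5e057e1f410eb0ccd91e2dce27cec7a26be511a7cc568cbf521fd05eac3e5da77ed7b1a2e4d46770e338248b0f0582831cff8e2a96491771cfd669af75de50de7c2ef7056b83fb5799bf9dc3e7a0a79b1a898d51bef95a69fdf542ebf08e99125dc5669bf75de51727cf8ff056a83fb7799bb9dc367a0b7981a7d0d7a9eeb9e659ff4ceab229eac1e5600f0e8282506b20358479b6f9db66ed7f66fa299345dcb17ca8fa154f2bb2859a966d5f7685e913e5c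
/-- the root of the tree of the isotropic vectors -/
def r3 : Nat := 4160
theorem hmat5 : ∀ k < 5, dec 18 2 (codes5.getD k 0) = matOf (genC GC k) := by decide +kernel
theorem hmatZ : dec 18 2 (scals.getD 1 0) = matOf (genC GC 5) := by decide +kernel
end Cfsg.Agent.Lib.Helper6.J3Orb.D
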